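import Groth.Prelude.Def_SGA7I
import Groth.Agent.VarietyB.BaseExt3

/-!
# The Galois group acts transitively on the fibres of `U ×_L F → U`
-/

set_option autoImplicit false
universe u

open CategoryTheory CategoryTheory.Limits AlgebraicGeometry

namespace Groth.Agent.Sga7.H980.Trans

/-- (TRANS) the Galois group acts transitively on the fibres of `U ×_L F → U`
(`F / L` Galois, possibly infinite). -/
theorem exists_aut_of_fst_eq_infinite {L F : Type u} [Field L] [Field F] [Algebra L F] [IsGalois L F]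
    {U : Scheme.{u}} (f : U ⟶ Spec (CommRingCat.of L)) (y₁ y₂ : ↥(SGA7.bcField F f))
    (h : (pullback.fst f (Spec.map (CommRingCat.ofHom (algebraMap L F)))) y₁ =
      (pullback.fst f (Spec.map (CommRingCat.ofHom (algebraMap L F)))) y₂) :
    ∃ g : F ≃ₐ[L] F, (SGA7.twistAut F f g) y₁ = y₂ := by
  letI : U.Over (Spec (CommRingCat.of L)) := ⟨f⟩
  obtain ⟨σ, hσ⟩ := Groth.Agent.VarietyB.BaseExt3.exists_galAct_eq L U F y₁ y₂ h
  refine ⟨σ, ?_⟩
  have e : SGA7.twistAut F f σ = Curv2.galAct L U F σ := by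
    apply pullback.hom_ext
    · exact (pullback.lift_fst _ _ _).trans (pullback.lift_fst _ _ _).symm
    · exact (pullback.lift_snd _ _ _).trans (pullback.lift_snd _ _ _).symm
  rw [e]
  exact hσ

/-- (TRANS) the Galois group acts transitively on the fibres of `U ×_L F → U`. -/
theorem exists_aut_of_fst_eq {L F : Type u} [Field L] [Field F] [Algebra L F]
    [FiniteDimensional L F] [IsGalois L F]
    {U : Scheme.{u}} (f : U ⟶ Spec (CommRingCat.of L)) (y₁ y₂ : ↥(SGA7.bcField F f))
    (h : (pullback.fst f (Spec.map (CommRingCat.ofHom (algebraMap L F)))) y₁ =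
      (pullback.fst f (Spec.map (CommRingCat.ofHom (algebraMap L F)))) y₂) :
    ∃ g : F ≃ₐ[L] F, (SGA7.twistAut F f g) y₁ = y₂ :=
  exists_aut_of_fst_eq_infinite f y₁ y₂ h

end Groth.Agent.Sga7.H980.Trans
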